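import Cfsg.Agent.Lib.Helper9.TCData.U34A0.Main

set_option autoImplicit false
set_option maxRecDepth 1000000

namespace Cfsg.Agent.Helper9.TCData.U34A0
open Cfsg.Agent.Helper9.TC2

theorem e0_8 : allRange 26636 2295 (fun u => chkE tab 0 u) = true := by decide +kernel

theorem e0_9 : allRange 28931 2308 (fun u => chkE tab 0 u) = true := by decide +kernel

theorem e0_10 : allRange 31239 7042 (fun u => chkE tab 0 u) = true := by decide +kernel

theorem e0_11 : allRange 38281 3196 (fun u => chkE tab 0 u) = true := by decide +kernel

theorem e1_0 : allRange 0 6968 (fun u => chkE tab 1 u) = true := by decide +kernel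

theorem e1_1 : allRange 6968 6690 (fun u => chkE tab 1 u) = true := by decide +kernel

theorem e1_2 : allRange 13658 6662 (fun u => chkE tab 1 u) = true := by decide +kernel

theorem e1_3 : allRange 20320 6265 (fun u => chkE tab 1 u) = true := by decide +kernel


end Cfsg.Agent.Helper9.TCData.U34A0
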