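import Cfsg.Agent.Lib.Helper9.TCData.U34A0.Main

set_option autoImplicit false
set_option maxRecDepth 1000000

namespace Cfsg.Agent.Helper9.TCData.U34A0
open Cfsg.Agent.Helper9.TC2

theorem e1_4 : allRange 26585 10245 (fun u => chkE tab 1 u) = true := by decide +kernel

theorem e1_5 : allRange 36830 4647 (fun u => chkE tab 1 u) = true := by decide +kernel

theorem e2_0 : allRange 0 3899 (fun u => chkE tab 2 u) = true := by decide +kernel

theorem e2_1 : allRange 3899 3669 (fun u => chkE tab 2 u) = true := by decide +kernel

theorem e2_2 : allRange 7568 4115 (fun u => chkE tab 2 u) = true := by decide +kernel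

theorem e2_3 : allRange 11683 2957 (fun u => chkE tab 2 u) = true := by decide +kernel

theorem e2_4 : allRange 14640 4833 (fun u => chkE tab 2 u) = true := by decide +kernel

theorem e2_5 : allRange 19473 2964 (fun u => chkE tab 2 u) = true := by decide +kernel


end Cfsg.Agent.Helper9.TCData.U34A0
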