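import Cfsg.Agent.Lib.Helper9.TCData.U34A0.Main

set_option autoImplicit false
set_option maxRecDepth 1000000

namespace Cfsg.Agent.Helper9.TCData.U34A0
open Cfsg.Agent.Helper9.TC2

theorem e2_6 : allRange 22437 3215 (fun u => chkE tab 2 u) = true := by decide +kernel

theorem e2_7 : allRange 25652 5928 (fun u => chkE tab 2 u) = true := by decide +kernel

theorem e2_8 : allRange 31580 2965 (fun u => chkE tab 2 u) = true := by decide +kernel

theorem e2_9 : allRange 34545 2953 (fun u => chkE tab 2 u) = true := by decide +kernel

theorem e2_10 : allRange 37498 2943 (fun u => chkE tab 2 u) = true := by decide +kernel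

theorem e2_11 : allRange 40441 1036 (fun u => chkE tab 2 u) = true := by decide +kernel

theorem e3_0 : allRange 0 5206 (fun u => chkE tab 3 u) = true := by decide +kernel

theorem e3_1 : allRange 5206 4591 (fun u => chkE tab 3 u) = true := by decide +kernel


end Cfsg.Agent.Helper9.TCData.U34A0
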