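import Cfsg.Agent.Lib.Helper9.TCData.U34A0.Main

set_option autoImplicit false
set_option maxRecDepth 1000000

namespace Cfsg.Agent.Helper9.TCData.U34A0
open Cfsg.Agent.Helper9.TC2

theorem e3_2 : allRange 9797 5493 (fun u => chkE tab 3 u) = true := by decide +kernel

theorem e3_3 : allRange 15290 3280 (fun u => chkE tab 3 u) = true := by decide +kernel

theorem e3_4 : allRange 18570 7207 (fun u => chkE tab 3 u) = true := by decide +kernel

theorem e3_5 : allRange 25777 3228 (fun u => chkE tab 3 u) = true := by decide +kernel

theorem e3_6 : allRange 29005 4739 (fun u => chkE tab 3 u) = true := by decide +kernel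

theorem e3_7 : allRange 33744 7702 (fun u => chkE tab 3 u) = true := by decide +kernel

theorem e3_8 : allRange 41446 31 (fun u => chkE tab 3 u) = true := by decide +kernel


end Cfsg.Agent.Helper9.TCData.U34A0
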