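import Cfsg.Agent.Lib.Helper9.TCData.U34A0.Main

set_option autoImplicit false
set_option maxRecDepth 1000000

namespace Cfsg.Agent.Helper9.TCData.U34A0
open Cfsg.Agent.Helper9.TC2

theorem l_16 : allRange 29959 1519 (fun u => chkL tab u) = true := by decide +kernel

theorem l_17 : allRange 31478 1555 (fun u => chkL tab u) = true := by decide +kernel

theorem l_18 : allRange 33033 1553 (fun u => chkL tab u) = true := by decide +kernel

theorem l_19 : allRange 34586 1596 (fun u => chkL tab u) = true := by decide +kernel

theorem l_20 : allRange 36182 1542 (fun u => chkL tab u) = true := by decide +kernel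

theorem l_21 : allRange 37724 1587 (fun u => chkL tab u) = true := by decide +kernel

theorem l_22 : allRange 39311 1580 (fun u => chkL tab u) = true := by decide +kernel

theorem l_23 : allRange 40891 586 (fun u => chkL tab u) = true := by decide +kernel


end Cfsg.Agent.Helper9.TCData.U34A0
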