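import Cfsg.Agent.Lib.Helper9.TCData.U34A0.S0
import Cfsg.Agent.Lib.Helper9.TCData.U34A0.S1
import Cfsg.Agent.Lib.Helper9.TCData.U34A0.S2
import Cfsg.Agent.Lib.Helper9.TCData.U34A0.S3
import Cfsg.Agent.Lib.Helper9.TCData.U34A0.S4
import Cfsg.Agent.Lib.Helper9.TCData.U34A0.S5
import Cfsg.Agent.Lib.Helper9.TCData.U34A0.S6
import Cfsg.Agent.Lib.Helper9.TCData.U34A0.S7
import Cfsg.Agent.Lib.Helper9.TCData.U34A0.S8
import Cfsg.Agent.Lib.Helper9.TCData.U34A0.S9
import Cfsg.Agent.Lib.Helper9.TCData.U34A0.S10
import Cfsg.Agent.Lib.Helper9.TCData.U34A0.S11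
import Cfsg.Agent.Lib.Helper9.TCData.U34A0.S12
import Cfsg.Agent.Lib.Helper9.TCData.U34A0.S13
import Cfsg.Agent.Lib.Helper9.TCData.U34A0.S14

set_option autoImplicit false
set_option maxRecDepth 1000000

namespace Cfsg.Agent.Helper9.TCData.U34A0
open Cfsg.Agent.Helper9.TC2


theorem hE0 : ∀ u < 41477, chkE tab 0 u = true := by
  have h0 : ∀ u < 0, (fun u => chkE tab 0 u) u = true := range_zero
  have h1 : ∀ u < 3328, (fun u => chkE tab 0 u) u = true := ext_range (a := 0) (len := 3328) h0 e0_0
  have h2 : ∀ u < 6436, (fun u => chkE tab 0 u) u = true := ext_range (a := 3328) (len := 3108) h1 e0_1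
  have h3 : ∀ u < 9865, (fun u => chkE tab 0 u) u = true := ext_range (a := 6436) (len := 3429) h2 e0_2
  have h4 : ∀ u < 13568, (fun u => chkE tab 0 u) u = true := ext_range (a := 9865) (len := 3703) h3 e0_3
  have h5 : ∀ u < 16497, (fun u => chkE tab 0 u) u = true := ext_range (a := 13568) (len := 2929) h4 e0_4
  have h6 : ∀ u < 19045, (fun u => chkE tab 0 u) u = true := ext_range (a := 16497) (len := 2548) h5 e0_5
  have h7 : ∀ u < 23449, (fun u => chkE tab 0 u) u = true := ext_range (a := 19045) (len := 4404) h6 e0_6
  have h8 : ∀ u < 26636, (fun u => chkE tab 0 u) u = true := ext_range (a := 23449) (len := 3187) h7 e0_7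
  have h9 : ∀ u < 28931, (fun u => chkE tab 0 u) u = true := ext_range (a := 26636) (len := 2295) h8 e0_8
  have h10 : ∀ u < 31239, (fun u => chkE tab 0 u) u = true := ext_range (a := 28931) (len := 2308) h9 e0_9
  have h11 : ∀ u < 38281, (fun u => chkE tab 0 u) u = true := ext_range (a := 31239) (len := 7042) h10 e0_10
  have h12 : ∀ u < 41477, (fun u => chkE tab 0 u) u = true := ext_range (a := 38281) (len := 3196) h11 e0_11
  exact h12

theorem hE1 : ∀ u < 41477, chkE tab 1 u = true := by
  have h0 : ∀ u < 0, (fun u => chkE tab 1 u) u = true := range_zero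
  have h1 : ∀ u < 6968, (fun u => chkE tab 1 u) u = true := ext_range (a := 0) (len := 6968) h0 e1_0
  have h2 : ∀ u < 13658, (fun u => chkE tab 1 u) u = true := ext_range (a := 6968) (len := 6690) h1 e1_1
  have h3 : ∀ u < 20320, (fun u => chkE tab 1 u) u = true := ext_range (a := 13658) (len := 6662) h2 e1_2
  have h4 : ∀ u < 26585, (fun u => chkE tab 1 u) u = true := ext_range (a := 20320) (len := 6265) h3 e1_3
  have h5 : ∀ u < 36830, (fun u => chkE tab 1 u) u = true := ext_range (a := 26585) (len := 10245) h4 e1_4
  have h6 : ∀ u < 41477, (fun u => chkE tab 1 u) u = true := ext_range (a := 36830) (len := 4647) h5 e1_5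
  exact h6

theorem hE2 : ∀ u < 41477, chkE tab 2 u = true := by
  have h0 : ∀ u < 0, (fun u => chkE tab 2 u) u = true := range_zero
  have h1 : ∀ u < 3899, (fun u => chkE tab 2 u) u = true := ext_range (a := 0) (len := 3899) h0 e2_0
  have h2 : ∀ u < 7568, (fun u => chkE tab 2 u) u = true := ext_range (a := 3899) (len := 3669) h1 e2_1
  have h3 : ∀ u < 11683, (fun u => chkE tab 2 u) u = true := ext_range (a := 7568) (len := 4115) h2 e2_2
  have h4 : ∀ u < 14640, (fun u => chkE tab 2 u) u = true := ext_range (a := 11683) (len := 2957) h3 e2_3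
  have h5 : ∀ u < 19473, (fun u => chkE tab 2 u) u = true := ext_range (a := 14640) (len := 4833) h4 e2_4
  have h6 : ∀ u < 22437, (fun u => chkE tab 2 u) u = true := ext_range (a := 19473) (len := 2964) h5 e2_5
  have h7 : ∀ u < 25652, (fun u => chkE tab 2 u) u = true := ext_range (a := 22437) (len := 3215) h6 e2_6
  have h8 : ∀ u < 31580, (fun u => chkE tab 2 u) u = true := ext_range (a := 25652) (len := 5928) h7 e2_7
  have h9 : ∀ u < 34545, (fun u => chkE tab 2 u) u = true := ext_range (a := 31580) (len := 2965) h8 e2_8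
  have h10 : ∀ u < 37498, (fun u => chkE tab 2 u) u = true := ext_range (a := 34545) (len := 2953) h9 e2_9
  have h11 : ∀ u < 40441, (fun u => chkE tab 2 u) u = true := ext_range (a := 37498) (len := 2943) h10 e2_10
  have h12 : ∀ u < 41477, (fun u => chkE tab 2 u) u = true := ext_range (a := 40441) (len := 1036) h11 e2_11
  exact h12

theorem hE3 : ∀ u < 41477, chkE tab 3 u = true := by
  have h0 : ∀ u < 0, (fun u => chkE tab 3 u) u = true := range_zero
  have h1 : ∀ u < 5206, (fun u => chkE tab 3 u) u = true := ext_range (a := 0) (len := 5206) h0 e3_0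
  have h2 : ∀ u < 9797, (fun u => chkE tab 3 u) u = true := ext_range (a := 5206) (len := 4591) h1 e3_1
  have h3 : ∀ u < 15290, (fun u => chkE tab 3 u) u = true := ext_range (a := 9797) (len := 5493) h2 e3_2
  have h4 : ∀ u < 18570, (fun u => chkE tab 3 u) u = true := ext_range (a := 15290) (len := 3280) h3 e3_3
  have h5 : ∀ u < 25777, (fun u => chkE tab 3 u) u = true := ext_range (a := 18570) (len := 7207) h4 e3_4
  have h6 : ∀ u < 29005, (fun u => chkE tab 3 u) u = true := ext_range (a := 25777) (len := 3228) h5 e3_5
  have h7 : ∀ u < 33744, (fun u => chkE tab 3 u) u = true := ext_range (a := 29005) (len := 4739) h6 e3_6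
  have h8 : ∀ u < 41446, (fun u => chkE tab 3 u) u = true := ext_range (a := 33744) (len := 7702) h7 e3_7
  have h9 : ∀ u < 41477, (fun u => chkE tab 3 u) u = true := ext_range (a := 41446) (len := 31) h8 e3_8
  exact h9

theorem hL : ∀ u < 41477, chkL tab u = true := by
  have h0 : ∀ u < 0, (fun u => chkL tab u) u = true := range_zero
  have h1 : ∀ u < 3950, (fun u => chkL tab u) u = true := ext_range (a := 0) (len := 3950) h0 l_0
  have h2 : ∀ u < 6158, (fun u => chkL tab u) u = true := ext_range (a := 3950) (len := 2208) h1 l_1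
  have h3 : ∀ u < 8202, (fun u => chkL tab u) u = true := ext_range (a := 6158) (len := 2044) h2 l_2
  have h4 : ∀ u < 10176, (fun u => chkL tab u) u = true := ext_range (a := 8202) (len := 1974) h3 l_3
  have h5 : ∀ u < 12017, (fun u => chkL tab u) u = true := ext_range (a := 10176) (len := 1841) h4 l_4
  have h6 : ∀ u < 13729, (fun u => chkL tab u) u = true := ext_range (a := 12017) (len := 1712) h5 l_5
  have h7 : ∀ u < 15458, (fun u => chkL tab u) u = true := ext_range (a := 13729) (len := 1729) h6 l_6
  have h8 : ∀ u < 17123, (fun u => chkL tab u) u = true := ext_range (a := 15458) (len := 1665) h7 l_7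
  have h9 : ∀ u < 18767, (fun u => chkL tab u) u = true := ext_range (a := 17123) (len := 1644) h8 l_8
  have h10 : ∀ u < 20418, (fun u => chkL tab u) u = true := ext_range (a := 18767) (len := 1651) h9 l_9
  have h11 : ∀ u < 22037, (fun u => chkL tab u) u = true := ext_range (a := 20418) (len := 1619) h10 l_10
  have h12 : ∀ u < 23656, (fun u => chkL tab u) u = true := ext_range (a := 22037) (len := 1619) h11 l_11
  have h13 : ∀ u < 25254, (fun u => chkL tab u) u = true := ext_range (a := 23656) (len := 1598) h12 l_12
  have h14 : ∀ u < 26834, (fun u => chkL tab u) u = true := ext_range (a := 25254) (len := 1580) h13 l_13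
  have h15 : ∀ u < 28410, (fun u => chkL tab u) u = true := ext_range (a := 26834) (len := 1576) h14 l_14
  have h16 : ∀ u < 29959, (fun u => chkL tab u) u = true := ext_range (a := 28410) (len := 1549) h15 l_15
  have h17 : ∀ u < 31478, (fun u => chkL tab u) u = true := ext_range (a := 29959) (len := 1519) h16 l_16
  have h18 : ∀ u < 33033, (fun u => chkL tab u) u = true := ext_range (a := 31478) (len := 1555) h17 l_17
  have h19 : ∀ u < 34586, (fun u => chkL tab u) u = true := ext_range (a := 33033) (len := 1553) h18 l_18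
  have h20 : ∀ u < 36182, (fun u => chkL tab u) u = true := ext_range (a := 34586) (len := 1596) h19 l_19
  have h21 : ∀ u < 37724, (fun u => chkL tab u) u = true := ext_range (a := 36182) (len := 1542) h20 l_20
  have h22 : ∀ u < 39311, (fun u => chkL tab u) u = true := ext_range (a := 37724) (len := 1587) h21 l_21
  have h23 : ∀ u < 40891, (fun u => chkL tab u) u = true := ext_range (a := 39311) (len := 1580) h22 l_22
  have h24 : ∀ u < 41477, (fun u => chkL tab u) u = true := ext_range (a := 40891) (len := 586) h23 l_23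
  exact h24

theorem hF : ∀ u < 4800, chkFin tab u = true := by
  have h0 : ∀ u < 0, (fun u => chkFin tab u) u = true := range_zero
  have h1 : ∀ u < 572, (fun u => chkFin tab u) u = true := ext_range (a := 0) (len := 572) h0 f_0
  have h2 : ∀ u < 1144, (fun u => chkFin tab u) u = true := ext_range (a := 572) (len := 572) h1 f_1
  have h3 : ∀ u < 1716, (fun u => chkFin tab u) u = true := ext_range (a := 1144) (len := 572) h2 f_2
  have h4 : ∀ u < 2288, (fun u => chkFin tab u) u = true := ext_range (a := 1716) (len := 572) h3 f_3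
  have h5 : ∀ u < 2860, (fun u => chkFin tab u) u = true := ext_range (a := 2288) (len := 572) h4 f_4
  have h6 : ∀ u < 3432, (fun u => chkFin tab u) u = true := ext_range (a := 2860) (len := 572) h5 f_5
  have h7 : ∀ u < 4004, (fun u => chkFin tab u) u = true := ext_range (a := 3432) (len := 572) h6 f_6
  have h8 : ∀ u < 4576, (fun u => chkFin tab u) u = true := ext_range (a := 4004) (len := 572) h7 f_7
  have h9 : ∀ u < 4800, (fun u => chkFin tab u) u = true := ext_range (a := 4576) (len := 224) h8 f_8
  exact h9

theorem hC : ∀ u < 41477, chkCls tab u = true := by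
  have h0 : ∀ u < 0, (fun u => chkCls tab u) u = true := range_zero
  have h1 : ∀ u < 2667, (fun u => chkCls tab u) u = true := ext_range (a := 0) (len := 2667) h0 c_0
  have h2 : ∀ u < 5334, (fun u => chkCls tab u) u = true := ext_range (a := 2667) (len := 2667) h1 c_1
  have h3 : ∀ u < 8001, (fun u => chkCls tab u) u = true := ext_range (a := 5334) (len := 2667) h2 c_2
  have h4 : ∀ u < 10668, (fun u => chkCls tab u) u = true := ext_range (a := 8001) (len := 2667) h3 c_3
  have h5 : ∀ u < 13335, (fun u => chkCls tab u) u = true := ext_range (a := 10668) (len := 2667) h4 c_4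
  have h6 : ∀ u < 16002, (fun u => chkCls tab u) u = true := ext_range (a := 13335) (len := 2667) h5 c_5
  have h7 : ∀ u < 18669, (fun u => chkCls tab u) u = true := ext_range (a := 16002) (len := 2667) h6 c_6
  have h8 : ∀ u < 21336, (fun u => chkCls tab u) u = true := ext_range (a := 18669) (len := 2667) h7 c_7
  have h9 : ∀ u < 24003, (fun u => chkCls tab u) u = true := ext_range (a := 21336) (len := 2667) h8 c_8
  have h10 : ∀ u < 26670, (fun u => chkCls tab u) u = true := ext_range (a := 24003) (len := 2667) h9 c_9
  have h11 : ∀ u < 29337, (fun u => chkCls tab u) u = true := ext_range (a := 26670) (len := 2667) h10 c_10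
  have h12 : ∀ u < 32004, (fun u => chkCls tab u) u = true := ext_range (a := 29337) (len := 2667) h11 c_11
  have h13 : ∀ u < 34671, (fun u => chkCls tab u) u = true := ext_range (a := 32004) (len := 2667) h12 c_12
  have h14 : ∀ u < 37338, (fun u => chkCls tab u) u = true := ext_range (a := 34671) (len := 2667) h13 c_13
  have h15 : ∀ u < 40005, (fun u => chkCls tab u) u = true := ext_range (a := 37338) (len := 2667) h14 c_14
  have h16 : ∀ u < 41477, (fun u => chkCls tab u) u = true := ext_range (a := 40005) (len := 1472) h15 c_15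
  exact h16

theorem hM1 : ∀ u < 4800, chkM1 tab u = true := by
  have h0 : ∀ u < 0, (fun u => chkM1 tab u) u = true := range_zero
  have h1 : ∀ u < 1510, (fun u => chkM1 tab u) u = true := ext_range (a := 0) (len := 1510) h0 m1_0
  have h2 : ∀ u < 3020, (fun u => chkM1 tab u) u = true := ext_range (a := 1510) (len := 1510) h1 m1_1
  have h3 : ∀ u < 4530, (fun u => chkM1 tab u) u = true := ext_range (a := 3020) (len := 1510) h2 m1_2
  have h4 : ∀ u < 4800, (fun u => chkM1 tab u) u = true := ext_range (a := 4530) (len := 270) h3 m1_3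
  exact h4

theorem hMA : ∀ u < 4800, chkAux tab aux u = true := by
  have h0 : ∀ u < 0, (fun u => chkAux tab aux u) u = true := range_zero
  have h1 : ∀ u < 572, (fun u => chkAux tab aux u) u = true := ext_range (a := 0) (len := 572) h0 ma_0
  have h2 : ∀ u < 1144, (fun u => chkAux tab aux u) u = true := ext_range (a := 572) (len := 572) h1 ma_1
  have h3 : ∀ u < 1716, (fun u => chkAux tab aux u) u = true := ext_range (a := 1144) (len := 572) h2 ma_2
  have h4 : ∀ u < 2288, (fun u => chkAux tab aux u) u = true := ext_range (a := 1716) (len := 572) h3 ma_3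
  have h5 : ∀ u < 2860, (fun u => chkAux tab aux u) u = true := ext_range (a := 2288) (len := 572) h4 ma_4
  have h6 : ∀ u < 3432, (fun u => chkAux tab aux u) u = true := ext_range (a := 2860) (len := 572) h5 ma_5
  have h7 : ∀ u < 4004, (fun u => chkAux tab aux u) u = true := ext_range (a := 3432) (len := 572) h6 ma_6
  have h8 : ∀ u < 4576, (fun u => chkAux tab aux u) u = true := ext_range (a := 4004) (len := 572) h7 ma_7
  have h9 : ∀ u < 4800, (fun u => chkAux tab aux u) u = true := ext_range (a := 4576) (len := 224) h8 ma_8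
  exact h9

theorem hM2A : ∀ u < 4800, chkFix tab mwordsA u = true := by
  have h0 : ∀ u < 0, (fun u => chkFix tab mwordsA u) u = true := range_zero
  have h1 : ∀ u < 635, (fun u => chkFix tab mwordsA u) u = true := ext_range (a := 0) (len := 635) h0 m2_0
  have h2 : ∀ u < 1270, (fun u => chkFix tab mwordsA u) u = true := ext_range (a := 635) (len := 635) h1 m2_1
  have h3 : ∀ u < 1905, (fun u => chkFix tab mwordsA u) u = true := ext_range (a := 1270) (len := 635) h2 m2_2
  have h4 : ∀ u < 2540, (fun u => chkFix tab mwordsA u) u = true := ext_range (a := 1905) (len := 635) h3 m2_3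
  have h5 : ∀ u < 3175, (fun u => chkFix tab mwordsA u) u = true := ext_range (a := 2540) (len := 635) h4 m2_4
  have h6 : ∀ u < 3810, (fun u => chkFix tab mwordsA u) u = true := ext_range (a := 3175) (len := 635) h5 m2_5
  have h7 : ∀ u < 4445, (fun u => chkFix tab mwordsA u) u = true := ext_range (a := 3810) (len := 635) h6 m2_6
  have h8 : ∀ u < 4800, (fun u => chkFix tab mwordsA u) u = true := ext_range (a := 4445) (len := 355) h7 m2_7
  exact h8

theorem hE : ∀ c < 4, ∀ u < 41477, chkE tab c u = true := by
  intro c hc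
  interval_cases c
  · exact hE0
  · exact hE1
  · exact hE2
  · exact hE3

end Cfsg.Agent.Helper9.TCData.U34A0
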