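import Cfsg.Agent.Lib.Helper9.TC2Cox
import Cfsg.Agent.Lib.Helper9.TC2Aux
import Cfsg.Agent.Lib.Helper9.TC2BSGS
import Cfsg.Agent.Lib.Helper9.TC2Pack
import Cfsg.Agent.Lib.Helper9.TCData.U34A0.P0

set_option autoImplicit false
set_option maxRecDepth 100000

namespace Cfsg.Agent.Helper9.TCData.U34A0
open Cfsg.Agent.Helper9.TC2
/-- The rotated relators. -/
noncomputable def rotT : WT := (WT.node 10 (WT.node 5 (WT.node 2 (WT.node 1 (WT.leaf [0, 0]) (WT.leaf [0, 2, 0, 2, 0, 2, 0, 2, 0, 2, 0, 2, 0, 2, 0, 2, 0, 2, 0, 2, 0, 2, 0, 2, 0, 2])) (WT.node 3 (WT.leaf [0, 2, 0, 2, 1, 3, 1, 3, 1, 3, 0, 2, 0, 2, 0, 2, 1, 3, 1, 3, 1, 3, 0, 2, 0, 2, 0, 2, 1, 3, 1, 3, 1, 3, 0, 2]) (WT.node 4 (WT.leaf [0, 2, 1, 3, 1, 3, 1, 3, 0, 2, 0, 2, 0, 2, 1, 3, 1, 3, 1, 3, 0,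 2, 0, 2, 0, 2, 1, 3, 1, 3, 1, 3, 0, 2, 0, 2]) (WT.leaf [0, 2, 1, 3, 0, 2, 1, 3, 0, 2, 1, 3, 0, 2, 1, 3, 0, 2, 1, 3])))) (WT.node 7 (WT.node 6 (WT.leaf [0, 2, 0, 2, 0, 2, 1, 3, 1, 3, 1, 3, 0, 2, 0, 2, 0, 2, 1, 3, 1, 3, 1, 3, 0, 2, 0, 2, 0, 2, 1, 3, 1, 3, 1, 3]) (WT.leaf [1, 3, 0, 2, 1, 3, 0, 2, 1, 3, 0, 2, 1, 3, 0, 2, 1, 3, 0, 2])) (WT.node 8 (WT.leaf [1, 3, 1, 3, 1, 3, 0, 2, 0, 2, 0, 2, 1, 3, 1, 3, 1, 3, 0, 2, 0, 2, 0, 2, 1, 3, 1, 3, 1, 3, 0, 2, 0, 2, 0, 2]) (WT.node 9 (WT.leaf [1, 3, 1, 3, 0, 2, 0, 2, 0, 2, 1, 3, 1, 3, 1, 3, 0, 2, 0, 2, 0, 2, 1, 3, 1, 3, 1, 3, 0, 2, 0, 2, 0, 2, 1, 3]) (WT.leaf [1, 3, 0, 2, 0, 2, 0, 2, 1, 3, 1, 3, 1, 3, 0, 2, 0, 2, 0, 2, 1, 3, 1, 3, 1, 3, 0, 2, 0, 2, 0, 2, 1, 3, 1, 3]))))) (WT.node 15 (WT.node 12 (WT.node 11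 (WT.leaf [2, 2, 2]) (WT.leaf [2, 0, 2, 0, 2, 0, 2, 0, 2, 0, 2, 0, 2, 0, 2, 0, 2, 0, 2, 0, 2, 0, 2, 0, 2, 0])) (WT.node 13 (WT.leaf [2, 1, 3, 0, 2, 1, 3, 0, 2, 1, 3, 0, 2, 1, 3, 0, 2, 1, 3, 0]) (WT.node 14 (WT.leaf [2, 0, 2, 1, 3, 1, 3, 1, 3, 0, 2, 0, 2, 0, 2, 1, 3, 1, 3, 1, 3, 0, 2, 0, 2, 0, 2, 1, 3, 1, 3, 1, 3, 0, 2, 0]) (WT.leaf [2, 1, 3, 1, 3, 1, 3, 0, 2, 0, 2, 0, 2, 1, 3, 1, 3, 1, 3, 0, 2, 0, 2, 0, 2, 1, 3, 1, 3, 1, 3, 0, 2, 0, 2, 0])))) (WT.node 17 (WT.node 16 (WT.leaf [3, 0, 2, 1, 3, 0, 2, 1, 3, 0, 2, 1, 3, 0, 2, 1, 3, 0, 2, 1]) (WT.leaf [3, 1, 3, 0, 2, 0, 2, 0, 2, 1, 3, 1, 3, 1, 3, 0, 2, 0, 2, 0, 2, 1, 3, 1, 3, 1, 3, 0, 2, 0, 2, 0, 2, 1, 3, 1])) (WT.node 18 (WT.leaf [3, 1, 3, 1, 3, 0, 2, 0, 2, 0, 2, 1, 3, 1, 3, 1, 3, 0, 2, 0, 2, 0, 2,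 1, 3, 1, 3, 1, 3, 0, 2, 0, 2, 0, 2, 1]) (WT.node 19 (WT.leaf [3, 0, 2, 0, 2, 0, 2, 1, 3, 1, 3, 1, 3, 0, 2, 0, 2, 0, 2, 1, 3, 1, 3, 1, 3, 0, 2, 0, 2, 0, 2, 1, 3, 1, 3, 1]) (WT.leaf [2, 0, 2, 0, 2, 1, 3, 1, 3, 1, 3, 0, 2, 0, 2, 0, 2, 1, 3, 1, 3, 1, 3, 0, 2, 0, 2, 0, 2, 1, 3, 1, 3, 1, 3, 0]))))))

/-- The sources of the rotated relators: relator and rotation. -/
def rotSrc : List (ℕ × ℕ) := [(0, 1), (2, 0), (4, 8), (4, 10), (3, 2), (4, 6), (3, 4), (4, 12), (4, 2), (4, 4), (1, 1), (2, 1), (3, 7), (4, 21), (4, 35), (3, 1), (4, 3), (4, 1), (4, 5), (4, 31)]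

/-- The relators, as words of columns. -/
def relWords : List (List ℕ) := [[0, 0], [2, 2, 2], [0, 2, 0, 2, 0, 2, 0, 2, 0, 2, 0, 2, 0, 2, 0, 2, 0, 2, 0, 2, 0, 2, 0, 2, 0, 2], [1, 3, 0, 2, 1, 3, 0, 2, 1, 3, 0, 2, 1, 3, 0, 2, 1, 3, 0, 2], [1, 3, 1, 3, 1, 3, 0, 2, 0, 2, 0, 2, 1, 3, 1, 3, 1, 3, 0, 2, 0, 2, 0, 2, 1, 3, 1, 3, 1, 3, 0, 2, 0, 2, 0, 2]]

/-- The words of the auxiliary columns. -/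
def aux : List (List ℕ) := [[0, 2, 0, 2], [1, 3, 0, 2], [1, 3, 1, 3, 1, 3, 0, 2, 0, 2, 0, 2]]

/-- The words checked on the permutation model, with auxiliary columns. -/
def mwordsA : List (List ℕ) := [[0, 0], [2, 2, 2], [0, 2, 4, 4, 4, 4, 4, 4], [5, 5, 5, 5, 5], [6, 6, 6]]

/-- The table. -/
noncomputable def tab : Tab where
  k := 4
  inv := fun c => (bif Nat.beq c 0 then 1 else (bif Nat.beq c 1 then 0 else (bif Nat.beq c 2 then 3 else (bif Nat.beq c 3 then 2 else c))))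
  N := 41477
  n := 4800
  Tmax := 183009
  wn := 16
  mn := 0xffff
  subs := [[0, 2]]
  rot := fun i => rotT.getF i
  ent := fun c i => bget2 entT_0 8 8 34 0x3ffffffff 255 c i
  cer := fun c i => bget2 cerT_0 7 9 20 0xfffff 511 c i
  tau := fun c i => bget2 tauT_0 3 10 13 0x1fff 1023 c i
  lk := fun i => bget lkT_0 8 34 0x3ffffffff 255 i
  lc := fun i => bget lcT_0 8 36 0xfffffffff 255 i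
  pn := fun i => bget pnT_0 9 18 0x3ffff 511 i
  cls := fun i => bget clsT_0 10 13 0x1fff 1023 i
  rep := fun i => bget repT_0 10 16 0xffff 1023 i

end Cfsg.Agent.Helper9.TCData.U34A0
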